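import Mathlib
import Cfsg.Agent.DS.Ord.Chief

/-!
# Order recursion for derived lengths: the checker (helper57)

A table of bounds for irreducible groups (`LTab`: for each prime `q` a list of `(k, N, e)`) and of bounds for solvable
groups without normal `p`-subgroups (`STab`: a list of `(p, N, d)`) is valid as soon as each entry follows from the
table by one step of the recursion (`chk`); the proof is by induction on the order of the group.
`N = 0` in `LTab` means no condition on the order.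
-/

set_option autoImplicit false
set_option linter.style.haveILetI false
set_option linter.unusedSectionVars false

namespace Cfsg.Agent.DS.Ord

open Subgroup Cfsg.Agent.H511.Wt

/-- `f i` for all `i < n` -/
def allLt (f : ℕ → Bool) : ℕ → Bool
  | 0 => true
  | n + 1 => f n && allLt f n

theorem allLt_realised : True := by have := @allLt.eq_def; trivial

theorem allLt_spec {f : ℕ → Bool} {n : ℕ} (h : allLt f n = true) {i : ℕ} (hi : i < n) : f i = true := by
  induction n with
  | zero => omega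
  | succ n ih =>
    have h1 : (f n && allLt f n) = true := h
    rw [Bool.and_eq_true] at h1
    rcases (Nat.lt_succ_iff.1 hi).eq_or_lt with rfl | h2
    · exact h1.1
    · exact ih h1.2 h2

/-- evaluate `x` before passing it on -/
def force (x : ℕ) (f : ℕ → Bool) : Bool :=
  match x with
  | 0 => f 0
  | n + 1 => f (n + 1)

theorem force_eq (x : ℕ) (f : ℕ → Bool) : force x f = f x := by
  cases x <;> rfl

/-- `a ∣ b` -/
def dv (a b : ℕ) : Bool := Nat.beq (b % a) 0

theorem dv_iff {a b : ℕ} : dv a b = true ↔ a ∣ b := by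
  rw [dv, Nat.beq_eq, Nat.dvd_iff_mod_eq_zero]

/-- the primes below `100` -/
def PR : List ℕ := [2, 3, 5, 7, 11, 13, 17, 19, 23, 29, 31, 37, 41, 43, 47, 53, 59, 61, 67, 71, 73, 79, 83, 89, 97]

theorem mem_PR {r : ℕ} (hr : r.Prime) (h : r < 100) : r ∈ PR := by
  have key : ∀ r < 100, r ∈ PR ∨ r < 2 ∨ ∃ s < 10, 2 ≤ s ∧ s < r ∧ s ∣ r := by decide +kernel
  rcases key r h with h1 | h1 | ⟨s, _, h2, h3, h4⟩
  · exact h1
  · exact absurd hr.two_le (by omega)
  · rcases (Nat.dvd_prime hr).1 h4 with h5 | h5 <;> omega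

/-- the product of the primes below `100` -/
def PP : ℕ := 2305567963945518424753102147331756070

theorem mem_PR_of_dvd {r N : ℕ} (hr : r.Prime) (hN : N ∣ PP ^ 100) (h : r ∣ N) : r ∈ PR := by
  have h1 : r ∣ PR.prod := by
    have e : PR.prod = PP := by decide +kernel
    rw [e]
    exact hr.dvd_of_dvd_pow (h.trans hN)
  obtain ⟨a, ha, hra⟩ := (hr.prime.dvd_prod_iff).1 h1
  have key : ∀ a ∈ PR, 0 < a ∧ a < 100 := by decide +kernel
  exact mem_PR hr (lt_of_le_of_lt (Nat.le_of_dvd (key a ha).1 hra) (key a ha).2)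

/-- the exponent of `q` in `N` -/
def vq (q : ℕ) : ℕ → ℕ → ℕ
  | 0, _ => 0
  | f + 1, N => bif dv q N then vq q f (N / q) + 1 else 0

theorem vq_realised : True := by have := @vq.eq_def; trivial

/-- one step of the recursion over the Fitting subgroup -/
def stepChk (ok : ℕ → ℕ → ℕ → ℕ → Bool) (N D q v k d : ℕ) : Bool :=
  force (max k (max (2 ^ d + 2 * d - 2) (2 ^ d + d + k - 2))) fun a0 =>
    Nat.blt v a0 || (Nat.ble (d + 1) D && force (D - (d + 1)) fun e =>
      ok q k (N / q ^ a0) e || (Nat.ble 2 d && allLt (fun a => Nat.blt a a0 || force (N / q ^ a) fun N1 =>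
        ok q k N1 e || (ok q (min (a + 2 - (2 ^ d + 2 * d)) k) N1 e && ok q (a + 5 - (k + 2 ^ d + d)) N1 e)) (v + 1)))

/-- the recursion over the Fitting subgroup -/
def solChk (ok : ℕ → ℕ → ℕ → ℕ → Bool) (p N D : ℕ) : Bool :=
  dv N (PP ^ 100) && PR.all fun q => Nat.beq q p || force (vq q 100 N) fun v =>
    Nat.blt v 100 && !(dv (q ^ (v + 1)) N) && allLt (fun k => allLt (fun d => stepChk ok N D q v (k + 1) d) 7) v

theorem div_pow_dvd {q N a b : ℕ} (hq : 0 < q) (hab : a ≤ b) (h : q ^ b ∣ N) : N / q ^ b ∣ N / q ^ a := by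
  refine dvd_div_of (pow_pos hq a) ?_
  conv_rhs => rw [← Nat.div_mul_cancel h]
  exact Nat.mul_dvd_mul_left _ (pow_dvd_pow q hab)

/-- **Soundness of the recursion over the Fitting subgroup**, for any sound source `ok` of bounds for the chief factors
of `X`. -/
theorem sol_of_chk (X : Type) [Group X] [Finite X] [Group.IsSolvable X] {ok : ℕ → ℕ → ℕ → ℕ → Bool}
    (hok : ∀ q k N e, q.Prime → ok q k N e = true → ChB X q k N e) {p N D : ℕ}
    (hp : ∀ M : Subgroup X, M.Normal → IsPGroup p M → M = ⊥) (hN : Nat.card X ∣ N) (h : solChk ok p N D = true) :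
    derivedSeries X D = ⊥ := by
  refine top_rule X hp hN ?_
  intro q a k d hq hqp ha hk1 f1 f2 f3
  rw [solChk, Bool.and_eq_true, dv_iff, List.all_eq_true] at h
  have ha1 : 1 ≤ a := by omega
  have h1 := h.2 q (mem_PR_of_dvd hq h.1 ((dvd_pow_self q (by omega)).trans ha))
  rw [Bool.or_eq_true, Nat.beq_eq, force_eq, Bool.and_eq_true, Bool.and_eq_true, Nat.blt_eq, Bool.not_eq_true',
    ← Bool.not_eq_true, dv_iff] at h1
  obtain ⟨⟨h2, h3⟩, h4⟩ := h1.resolve_left hqp
  generalize vq q 100 N = v at h2 h3 h4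
  have hav : a ≤ v := by
    by_contra hlt
    exact h3 ((pow_dvd_pow q (by omega)).trans ha)
  have hd : d < 7 := by
    by_contra hlt
    have : 2 ^ 7 ≤ 2 ^ d := Nat.pow_le_pow_right (by norm_num) (by omega)
    omega
  obtain ⟨k, rfl⟩ : ∃ k', k = k' + 1 := ⟨k - 1, by omega⟩
  have h5 := allLt_spec (allLt_spec h4 (show k < v by omega)) hd
  rw [stepChk, force_eq, Bool.or_eq_true, Nat.blt_eq, Bool.and_eq_true, Nat.ble_eq, force_eq, Bool.or_eq_true,
    Bool.and_eq_true, Nat.ble_eq] at h5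
  have h6 : max (k + 1) (max (2 ^ d + 2 * d - 2) (2 ^ d + d + (k + 1) - 2)) ≤ a :=
    max_le f1 (max_le (by omega) (by omega))
  generalize max (k + 1) (max (2 ^ d + 2 * d - 2) (2 ^ d + d + (k + 1) - 2)) = a0 at h5 h6
  obtain ⟨h7, h8⟩ := h5.resolve_left (by omega)
  refine ⟨h7, ?_⟩
  rcases h8 with h8 | ⟨h8, h9⟩
  · exact Or.inl ((hok _ _ _ _ hq h8).mono le_rfl (div_pow_dvd hq.pos h6 ha) le_rfl)
  · have h10 := allLt_spec h9 (show a < v + 1 by omega)
    rw [Bool.or_eq_true, Nat.blt_eq, force_eq, Bool.or_eq_true, Bool.and_eq_true] at h10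
    rcases h10.resolve_left (by omega) with h11 | h11
    · exact Or.inl (hok _ _ _ _ hq h11)
    · exact Or.inr ⟨h8, hok _ _ _ _ hq h11.1, hok _ _ _ _ hq h11.2⟩

/-- tables -/
abbrev LTab := List (ℕ × List (ℕ × ℕ × ℕ))

/-- tables -/
abbrev STab := List (ℕ × ℕ × ℕ)

/-- the row of `q` -/
def row (q : ℕ) : LTab → List (ℕ × ℕ × ℕ)
  | [] => []
  | x :: t => bif Nat.beq x.1 q then x.2 else row q t

theorem row_realised : True := by have := @row.eq_def; trivial

theorem mem_of_row {q : ℕ} {T : LTab} {y : ℕ × ℕ × ℕ} (h : y ∈ row q T) : ∃ x ∈ T, x.1 = q ∧ y ∈ x.2 := by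
  induction T with
  | nil => exact absurd h List.not_mem_nil
  | cons x t ih =>
    have h1 : y ∈ (bif Nat.beq x.1 q then x.2 else row q t) := h
    cases hb : Nat.beq x.1 q with
    | true =>
      rw [hb, cond_true] at h1
      exact ⟨x, List.mem_cons_self, Nat.eq_of_beq_eq_true hb, h1⟩
    | false =>
      rw [hb, cond_false] at h1
      obtain ⟨z, hz, hz'⟩ := ih h1
      exact ⟨z, List.mem_cons_of_mem _ hz, hz'⟩

/-- the first matching entry -/
def lkL (k N : ℕ) : List (ℕ × ℕ × ℕ) → ℕ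
  | [] => 1000
  | y :: t => bif Nat.ble k y.1 && dv N y.2.1 then y.2.2 else lkL k N t

theorem lkL_realised : True := by have := @lkL.eq_def; trivial

theorem lkL_spec {k N : ℕ} {L : List (ℕ × ℕ × ℕ)} (h : lkL k N L < 1000) :
    ∃ y ∈ L, k ≤ y.1 ∧ N ∣ y.2.1 ∧ y.2.2 = lkL k N L := by
  induction L with
  | nil => exact absurd h (lt_irrefl _)
  | cons y t ih =>
    have e : lkL k N (y :: t) = bif Nat.ble k y.1 && dv N y.2.1 then y.2.2 else lkL k N t := rfl
    rw [e] at h ⊢
    cases hb : (Nat.ble k y.1 && dv N y.2.1) with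
    | true =>
      rw [Bool.and_eq_true, Nat.ble_eq, dv_iff] at hb
      exact ⟨y, List.mem_cons_self, hb.1, hb.2, rfl⟩
    | false =>
      rw [hb, cond_false] at h
      obtain ⟨z, hz, hz'⟩ := ih h
      exact ⟨z, List.mem_cons_of_mem _ hz, hz'⟩

/-- the bound read off from the table -/
def lk (T : LTab) (q k N : ℕ) : ℕ := bif Nat.beq k 0 then 0 else lkL k N (row q T)

/-- the table as a source of bounds for chief factors -/
def okT (T : LTab) (q k N e : ℕ) : Bool := Nat.blt e 1000 && Nat.ble (lk T q k N) e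

/-- an entry of the second table applies -/
def solLk (S : STab) (q N e : ℕ) : Bool :=
  S.any fun y => Nat.ble y.2.2 e && (Nat.beq y.1 q || Nat.beq y.1 1) && dv N y.2.1

/-- the Clifford step -/
def clifChk (T : LTab) (q j N e : ℕ) : Bool :=
  Nat.ble 2 e && Nat.blt j 100 && PR.all fun r => !(dv r j) ||
    (allLt (fun c => force (r ^ (c + 1)) fun t => !(dv t j) || !(dv t N) ||
        Nat.ble (lk T r (c + 1) (N / t) + 1 + lk T q (j / t) (N / t)) e) 7 &&
      allLt (fun f => !(dv (f + 1) j) || force (j / (f + 1)) fun m => !(dv r m) || !(dv r (q ^ (f + 1) - 1)) ||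
        allLt (fun i => Nat.blt m (r ^ (i + 1)) || !(dv (r ^ (2 * (i + 1) + 1)) N) ||
          (Nat.ble 3 e && Nat.ble (lk T r (2 * (i + 1)) (N / r ^ (2 * (i + 1) + 1)) + 2) e)) 7) j)

/-- one entry of the first table -/
def linChk (T : LTab) (S : STab) (q k N e : ℕ) : Bool :=
  Nat.blt e 1000 && allLt (fun j => (Nat.beq j 0 && Nat.ble 1 e) || force (Nat.gcd N (glN q (j + 1))) fun N1 =>
    solLk S q N1 e || clifChk T q (j + 1) N1 e) k

/-- all entries of the first table -/
def chkL (T : LTab) (S : STab) : Bool := T.all fun x => x.2.all fun y => linChk T S x.1 y.1 y.2.1 y.2.2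

/-- all entries of the second table -/
def chkS (T : LTab) (S : STab) : Bool := S.all fun y => solChk (okT T) y.1 y.2.1 y.2.2

/-- all entries hold for images of order `< n` -/
def TabLt (n : ℕ) (T : LTab) : Prop := ∀ x ∈ T, ∀ y ∈ x.2, x.1.Prime → LinLt n x.1 y.1 y.2.1 y.2.2

theorem TabLt.lk {n : ℕ} {T : LTab} (h : TabLt n T) {q k N : ℕ} (hq : q.Prime) (h1 : lk T q k N < 1000) :
    LinLt n q k N (lk T q k N) := by
  rw [Ord.lk] at h1 ⊢
  cases hb : Nat.beq k 0 with
  | true =>
    rw [Nat.eq_of_beq_eq_true hb]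
    exact linLt_zero _ _ _ _
  | false =>
    rw [hb, cond_false] at h1
    rw [cond_false]
    obtain ⟨y, hy, h2, h3, h4⟩ := lkL_spec h1
    obtain ⟨x, hx, rfl, hyx⟩ := mem_of_row hy
    exact (h x hx y hyx hq).mono le_rfl h2 h3 h4.le

theorem TabLt.ok {n : ℕ} {T : LTab} (h : TabLt n T) {q k N e : ℕ} (hq : q.Prime) (h1 : okT T q k N e = true) :
    LinLt n q k N e := by
  rw [okT, Bool.and_eq_true, Nat.blt_eq, Nat.ble_eq] at h1
  exact (h.lk hq (by omega)).mono le_rfl le_rfl dvd_rfl h1.2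

theorem lt_seven {r c j : ℕ} (hr : r.Prime) (h : r ^ c ≤ j) (hj : j < 100) : c < 7 := by
  by_contra hlt
  have h1 : 2 ^ 7 ≤ r ^ c :=
    (Nat.pow_le_pow_right (by norm_num) (by omega)).trans (Nat.pow_le_pow_left hr.two_le c)
  omega

theorem clif_of_chk {T : LTab} (G V : Type) [Group G] [Finite G] [Group.IsSolvable G] [AddCommGroup V] [Finite V]
    [DistribMulAction G V] (hT : TabLt (Nat.card G) T) (hirr : Irr G V) (hf : ∀ g : G, (∀ x : V, g • x = x) → g = 1)
    {q j N e : ℕ} (hq : q.Prime) (hc : Nat.card V = q ^ j) (hN : Nat.card G ∣ N) (he : e < 1000)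
    (h : clifChk T q j N e = true) : DL G V e := by
  rw [clifChk, Bool.and_eq_true, Bool.and_eq_true, Nat.ble_eq, Nat.blt_eq, List.all_eq_true] at h
  obtain ⟨⟨h1, h2⟩, h3⟩ := h
  have hj := exp_pos hirr hc
  have h4 : ∀ r, r.Prime → r ∣ j → _ := fun r hr hrj => by
    have h5 := h3 r (mem_PR hr (lt_of_le_of_lt (Nat.le_of_dvd hj hrj) h2))
    rw [Bool.or_eq_true, Bool.not_eq_true', ← Bool.not_eq_true, dv_iff, Bool.and_eq_true] at h5
    exact h5.resolve_left (not_not.2 hrj)
  refine clif G V hirr hf hq hc hN h1 ?_ ?_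
  · rintro t r c hr rfl ht htj htN
    obtain ⟨c, rfl⟩ : ∃ c', c = c' + 1 := by
      refine Nat.exists_eq_succ_of_ne_zero ?_
      rintro rfl
      simp at ht
    have h5 := allLt_spec (h4 r hr ((dvd_pow_self r (by omega)).trans htj)).1
      (show c < 7 by have := lt_seven hr (Nat.le_of_dvd hj htj) h2; omega)
    rw [force_eq, Bool.or_eq_true, Bool.or_eq_true, Bool.not_eq_true', Bool.not_eq_true', ← Bool.not_eq_true,
      ← Bool.not_eq_true, dv_iff, dv_iff, Nat.ble_eq] at h5
    have h6 := h5.resolve_left (not_or.2 ⟨not_not.2 htj, not_not.2 htN⟩)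
    exact ⟨_, _, h6, hT.lk hq (by omega), hT.lk hr (by omega)⟩
  · intro f m r i hr hfm hrm hrq hi him hrN
    obtain ⟨f, rfl⟩ : ∃ f', f = f' + 1 := by
      refine Nat.exists_eq_succ_of_ne_zero ?_
      rintro rfl
      omega
    obtain ⟨i, rfl⟩ : ∃ i', i = i' + 1 := ⟨i - 1, by omega⟩
    have hm : 0 < m := by
      refine Nat.pos_of_ne_zero ?_
      rintro rfl
      omega
    have hfj : f + 1 ∣ j := ⟨m, hfm.symm⟩
    have hmj : m ∣ j := ⟨f + 1, by rw [← hfm, mul_comm]⟩
    have h5 := allLt_spec (h4 r hr (hrm.trans hmj)).2 (show f < j from Nat.le_of_dvd hj hfj)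
    have e1 : j / (f + 1) = m := by rw [← hfm, Nat.mul_div_cancel_left _ (Nat.succ_pos f)]
    rw [Bool.or_eq_true, Bool.not_eq_true', ← Bool.not_eq_true, dv_iff, force_eq, e1, Bool.or_eq_true,
      Bool.or_eq_true, Bool.not_eq_true', Bool.not_eq_true', ← Bool.not_eq_true, ← Bool.not_eq_true, dv_iff,
      dv_iff] at h5
    have h6 := allLt_spec ((h5.resolve_left (not_not.2 hfj)).resolve_left (not_or.2 ⟨not_not.2 hrm, not_not.2 hrq⟩))
      (show i < 7 by have := lt_seven hr (him.trans (Nat.le_of_dvd hj hmj)) h2; omega)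
    rw [Bool.or_eq_true, Bool.or_eq_true, Nat.blt_eq, Bool.not_eq_true', ← Bool.not_eq_true, dv_iff,
      Bool.and_eq_true, Nat.ble_eq, Nat.ble_eq] at h6
    obtain ⟨h7, h8⟩ := h6.resolve_left (not_or.2 ⟨by omega, not_not.2 hrN⟩)
    exact ⟨h7, (hT.lk hr (by omega)).mono le_rfl le_rfl dvd_rfl (by omega)⟩

theorem tabLt_succ {n : ℕ} {T : LTab} {S : STab} (hL : chkL T S = true) (hS : chkS T S = true) (h : TabLt n T) :
    TabLt (n + 1) T := by
  intro x hx y hy hq G V _ _ _ _ _ _ hirr j hj hc hn hN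
  rw [chkL, List.all_eq_true] at hL
  have h1 := hL x hx
  rw [List.all_eq_true] at h1
  have h2 := h1 y hy
  rw [linChk, Bool.and_eq_true, Nat.blt_eq] at h2
  obtain ⟨j, rfl⟩ : ∃ j', j = j' + 1 := ⟨j - 1, by have := exp_pos hirr hc; omega⟩
  have h3 := allLt_spec h2.2 (show j < y.1 from hj)
  rw [Bool.or_eq_true, Bool.and_eq_true, Nat.beq_eq, Nat.ble_eq, force_eq, Bool.or_eq_true] at h3
  have hsol : Group.IsSolvable (Im G V) := range_solvable
  have hg : Nat.card (Im G V) ∣ Nat.gcd y.2.1 (glN x.1 (j + 1)) := Nat.dvd_gcd hN (card_im_dvd_gl hirr hq hc)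
  rcases h3 with ⟨rfl, h3⟩ | h3 | h3
  · exact (dln_prime hq G V hirr (by rw [hc, zero_add, pow_one])).mono h3
  · rw [solLk, List.any_eq_true] at h3
    obtain ⟨z, hz, h4⟩ := h3
    rw [Bool.and_eq_true, Bool.and_eq_true, Nat.ble_eq, Bool.or_eq_true, Nat.beq_eq, Nat.beq_eq, dv_iff] at h4
    rw [chkS, List.all_eq_true] at hS
    have h5 := sol_of_chk (Im G V) (fun q k N e hq' hok => chB_of_lin (h.ok hq' hok) (by omega)) (p := z.1) (by
      intro M hM hMp
      rw [eq_bot_iff]
      intro g hg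
      rcases h4.1.2 with h6 | h6
      · rw [h6] at hMp
        exact range_faithful g (irr_pcore hirr.range hq hc M hMp g hg)
      · rw [h6] at hMp
        obtain ⟨k, hk⟩ := hMp ⟨g, hg⟩
        rw [one_pow, pow_one] at hk
        exact congrArg Subtype.val hk) (hg.trans h4.2) (hS z hz)
    refine DL.of_range (DL.mono ?_ h4.1.1)
    intro g hg v
    rw [dser_top, h5, mem_bot] at hg
    rw [hg, one_smul]
  · refine DL.of_range (clif_of_chk (Im G V) V ?_ hirr.range range_faithful hq hc hg h2.1 h3)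
    intro x' hx' y' hy' hq'
    exact (h x' hx' y' hy' hq').mono (by omega) le_rfl dvd_rfl le_rfl

/-- a valid table -/
def Valid (T : LTab) : Prop := ∀ n, TabLt n T

/-- **Soundness of the checker.** -/
theorem valid_of_chk {T : LTab} {S : STab} (hL : chkL T S = true) (hS : chkS T S = true) : Valid T := by
  intro n
  induction n with
  | zero =>
    intro x _ y _ _ G V _ _ _ _ _ _ _ j _ _ h
    omega
  | succ n ih => exact tabLt_succ hL hS ih

theorem Valid.chB {T : LTab} (h : Valid T) (X : Type) [Group X] [Finite X] [Group.IsSolvable X] {q k N e : ℕ}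
    (hq : q.Prime) (h1 : okT T q k N e = true) : ChB X q k N e :=
  chB_of_lin ((h (Nat.card X)).ok hq h1) le_rfl

/-- irreducible solvable groups -/
theorem Valid.dl {T : LTab} (h : Valid T) (G V : Type) [Group G] [Finite G] [Group.IsSolvable G] [AddCommGroup V]
    [Finite V] [DistribMulAction G V] (hirr : Irr G V) {q k N e j : ℕ} (hq : q.Prime) (hj : j ≤ k)
    (hc : Nat.card V = q ^ j) (hN : Nat.card (Im G V) ∣ N) (h1 : okT T q k N e = true) : DL G V e :=
  (h (Nat.card (Im G V) + 1)).ok hq h1 G V hirr j hj hc (Nat.lt_succ_self _) hN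

/-- solvable groups without normal `p`-subgroups -/
theorem Valid.sol {T : LTab} (h : Valid T) (X : Type) [Group X] [Finite X] [Group.IsSolvable X] {p N D : ℕ}
    (hp : ∀ M : Subgroup X, M.Normal → IsPGroup p M → M = ⊥) (hN : Nat.card X ∣ N)
    (h1 : solChk (okT T) p N D = true) : derivedSeries X D = ⊥ :=
  sol_of_chk X (fun _ _ _ _ hq hok => h.chB X hq hok) hp hN h1

theorem normal_one_bot {X : Type*} [Group X] (M : Subgroup X) (h : IsPGroup 1 M) : M = ⊥ := by
  rw [eq_bot_iff]
  intro g hg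
  obtain ⟨k, hk⟩ := h ⟨g, hg⟩
  rw [one_pow, pow_one] at hk
  exact congrArg Subtype.val hk

/-- all solvable groups -/
theorem Valid.sol_one {T : LTab} (h : Valid T) (X : Type) [Group X] [Finite X] [Group.IsSolvable X] {N D : ℕ}
    (hN : Nat.card X ∣ N) (h1 : solChk (okT T) 1 N D = true) : derivedSeries X D = ⊥ :=
  h.sol X (fun M _ hM => normal_one_bot M hM) hN h1

end Cfsg.Agent.DS.Ord
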